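import Groth.Agent.TorusHomZeroLib.Basic

/-! The projection from a base change is multiplicative on points. -/

set_option autoImplicit false
set_option backward.isDefEq.respectTransparency false

noncomputable section

universe u

open CategoryTheory CategoryTheory.Limits MonoidalCategory CartesianMonoidalCategory AlgebraicGeometry
open scoped MonObj

attribute [-instance] CategoryTheory.Hom.commGroup

namespace TorusHomZeroLib

variable {S S' : Scheme.{u}}

/-- The projection, as a map to `T`. -/
abbrev proj (π : S' ⟶ S) (T : Over S) : (Over.map π).obj (Red.bc π T) ⟶ T :=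
  (Over.mapPullbackAdj π).counit.app T

theorem counit_mul (π : S' ⟶ S) {T : Over S} [GrpObj T] {Z : Over S'} (a b : Z ⟶ Red.bc π T) :
    (Over.map π).map (a * b) ≫ proj π T =
      ((Over.map π).map a ≫ proj π T) * ((Over.map π).map b ≫ proj π T) := by
  have h : ∀ c : Z ⟶ Red.bc π T, (Over.map π).map c ≫ proj π T = ((Over.mapPullbackAdj π).homEquiv Z T).symm c :=
    fun c => (Adjunction.homEquiv_counit _ _ _ _).symm
  rw [h, h, h]
  refine ((Over.mapPullbackAdj π).homEquiv Z T).injective ?_
  rw [AlgGrp.Action.homEquiv_mul, Equiv.apply_symm_apply, Equiv.apply_symm_apply, Equiv.apply_symm_apply]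

end TorusHomZeroLib

end
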