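import Groth.Agent.S19289
import Groth.Agent.RedRankLib.CommRel
import Groth.Agent.WeilResLib.GrpGen
import Groth.Prelude.Def_ActBC

/-! Homomorphisms from tori over an `S`-scheme to abelian `S`-schemes vanish. -/

set_option autoImplicit false
set_option linter.style.haveILetI false
set_option backward.isDefEq.respectTransparency false
set_option maxHeartbeats 400000

noncomputable section

universe u

open CategoryTheory CategoryTheory.Limits MonoidalCategory CartesianMonoidalCategory AlgebraicGeometry
open scoped MonObj

attribute [-instance] CategoryTheory.Hom.commGroup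

namespace TorusHomZeroLib

variable {S S' : Scheme.{u}}

theorem homEquiv_one (π : S' ⟶ S) {A : Over S} [GrpObj A] (Z : Over S') :
    (Over.mapPullbackAdj π).homEquiv Z A 1 = 1 := by
  have h := AlgGrp.Action.homEquiv_mul (f := π) (T' := Z) (1 : (Over.map π).obj Z ⟶ A) 1
  rw [mul_one] at h
  exact mul_eq_left.1 h.symm

/-- A map which is multiplicative on points from a torus over `S'` to an abelian scheme over `S` is trivial. -/
theorem eq_one_of_mul (π : S' ⟶ S) {A : Over S} [GrpObj A] [IsCommMonObj A] [Smooth A.hom] [IsProper A.hom]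
    (hA : ∀ s : S, ConnectedSpace ↥(A.hom.fiber s))
    {TP : Over S'} [GrpObj TP] [IsCommMonObj TP] (hT : Red.IsTorus TP)
    (Ψ : (Over.map π).obj TP ⟶ A)
    (hΨ : ∀ {Z : Over S'} (a b : Z ⟶ TP), (Over.map π).map (a * b) ≫ Ψ =
      ((Over.map π).map a ≫ Ψ) * ((Over.map π).map b ≫ Ψ)) : Ψ = 1 := by
  let adj := Over.mapPullbackAdj π
  let f : TP ⟶ Red.bc π A := adj.homEquiv TP A Ψ
  have hf : ∀ {Z : Over S'} (a b : Z ⟶ TP), (a * b) ≫ f = (a ≫ f) * (b ≫ f) := by
    intro Z a b
    show (a * b) ≫ adj.homEquiv TP A Ψ = (a ≫ adj.homEquiv TP A Ψ) * (b ≫ adj.homEquiv TP A Ψ)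
    rw [← adj.homEquiv_naturality_left, ← adj.homEquiv_naturality_left, ← adj.homEquiv_naturality_left, hΨ]
    exact AlgGrp.Action.homEquiv_mul (f := π) _ _
  haveI : IsMonHom f := by
    constructor
    · have h := hf (1 : 𝟙_ (Over S') ⟶ TP) 1
      rw [mul_one] at h
      have h1 := mul_eq_left.1 h.symm
      rwa [Hom.one_def, toUnit_unit, Category.id_comp] at h1
    · have h := hf (fst TP TP) (snd TP TP)
      rw [Hom.mul_def, lift_fst_snd, Category.id_comp] at h
      rw [h, Hom.mul_def]
      congr 1
  haveI : Smooth (Red.bc π A).hom := inferInstanceAs (Smooth (pullback.snd A.hom π))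
  haveI : IsProper (Red.bc π A).hom := inferInstanceAs (IsProper (pullback.snd A.hom π))
  haveI : GeometricallyConnected A.hom := Groth.Agent.WeilRes.geometricallyConnected_of_grp A hA
  haveI : GeometricallyConnected (Red.bc π A).hom := inferInstanceAs (GeometricallyConnected (pullback.snd A.hom π))
  haveI : IsCommMonObj (Red.bc π A) := Functor.isCommMonObj_obj (F := Over.pullback π)
  have hc : ∀ s : S', ConnectedSpace ↥((Red.bc π A).hom.fiber s) := fun s => by
    haveI : GeometricallyConnected ((Red.bc π A).hom.fiberToSpecResidueField s) :=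
      MorphismProperty.pullback_snd (P := @GeometricallyConnected) _ _ inferInstance
    exact GeometricallyConnected.connectedSpace_of_subsingleton ((Red.bc π A).hom.fiberToSpecResidueField s)
  have h1 : f = 1 := Groth.Agent.S19289.result TP (Red.bc π A) hT hc f
  exact (adj.homEquiv TP A).injective (h1.trans (homEquiv_one π TP).symm)

end TorusHomZeroLib

end
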